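import Cfsg.Agent.H496.Ccp.TwF
import Cfsg.Agent.H520.SzT
import Cfsg.Agent.H410.RealTw

/-!
# S4114, the Suzuki groups (helper496)

`h : Cfg α`, `G = Sz(q)`.

* `fix_one` : `α` does not fix the involution `u 0 1` (by (F1) `α` would be trivial on the root group, hence inner and a
  2-element); hence no involution;
* `real` : elements of odd prime order are real (cyclic Sylow subgroups);
* `inn_triv` : `⟨α⟩` contains no nontrivial inner automorphism, so `|α|` divides `2 m + 1`;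
* `row` : if `|α|` is prime to `|G|` then `α` is conjugate to a field automorphism; otherwise `p ∣ |α|`, `p ∣ |G|`,
  `y ∈ ⟨α⟩` of order `p` is conjugate to a field automorphism; `C_G(y) = Sz(q₀)` contains involutions and is centralised by
  `α` if `q₀ > 2`, and `|α| = p` if `q₀ = 2`.
-/

set_option autoImplicit false

namespace Cfsg.Agent.H496.Ccp.Sz

open Subgroup Cfsg Cfsg.Lie Cfsg.Agent.H520 Cfsg.Agent.LieRecognition.SzMatrix Cfsg.Agent.H70.SzOut
  Cfsg.Agent.ThreePrime Cfsg.Agent.ThreePrime.SzRel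

universe u v

variable {F : Type u} [Field F] [Fintype F] {m : ℕ}

theorem ord_conj {G : Type*} [Group G] (g x : G) : orderOf (g * x * g⁻¹) = orderOf x := by
  rw [← MulAut.conj_apply]
  exact orderOf_injective (MulAut.conj g).toMonoidHom (MulAut.conj g).injective x

/-- In a finite cyclic group, `x ^ orderOf y = 1` makes `x` a power of `y`. -/
theorem mem_zpowers_of {G : Type*} [Group G] [Finite G] (hG : IsCyclic G) {x y : G} (h : x ^ orderOf y = 1) :
    x ∈ Subgroup.zpowers y := by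
  classical
  have := Fintype.ofFinite G
  have h1 : (Finset.univ.filter fun z : G => z ^ orderOf y = 1).card ≤ orderOf y :=
    IsCyclic.card_pow_eq_one_le (orderOf_pos y)
  have h2 : (Finset.univ.filter fun z : G => z ∈ Subgroup.zpowers y) ⊆
      (Finset.univ.filter fun z : G => z ^ orderOf y = 1) := by
    intro z hz
    rw [Finset.mem_filter] at hz ⊢
    refine ⟨Finset.mem_univ _, ?_⟩
    obtain ⟨k, rfl⟩ := hz.2
    show (y ^ k) ^ orderOf y = 1
    rw [← zpow_natCast, zpow_comm, zpow_natCast, pow_orderOf_eq_one, _root_.one_zpow]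
  have h3 : (Finset.univ.filter fun z : G => z ∈ Subgroup.zpowers y).card = orderOf y := by
    rw [← Nat.card_zpowers y, Nat.card_eq_fintype_card, Fintype.card_subtype]
  have h4 := Finset.eq_of_subset_of_card_le h2 (by rw [h3]; exact h1)
  have h5 : x ∈ (Finset.univ.filter fun z : G => z ^ orderOf y = 1) := by simp [h]
  rw [← h4, Finset.mem_filter] at h5
  exact h5.2

/-- `α` does not fix `u 0 1`. -/
theorem fix_one (hm : 1 ≤ m) (hF : Fintype.card F = 2 ^ (2 * m + 1)) {α : MulAut ↥(Cfsg.Lie.Sz F (2 ^ (m + 1)))}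
    (h : Cfg α) (hz : α ((ofGood (good hF)).u 0 1) = (ofGood (good hF)).u 0 1) : False := by
  have hfin : Finite ↥(Cfsg.Lie.Sz F (2 ^ (m + 1))) := inferInstance
  set R := ofGood (good hF) with hR
  have : Fact (Nat.Prime 2) := ⟨Nat.prime_two⟩
  have hu : ∀ (σ : F ≃+* F) (a b : F), fieldAut (good hF) σ (R.u a b) = R.u (σ a) (σ b) := fun σ a b =>
    fieldAut_u (good hF) σ a b
  obtain ⟨g, τ, hα⟩ := Cfsg.Agent.H70.SzAutThm.exists_conj_field hm hF α
  have hαu : ∀ b, α (R.u 0 b) = g * R.u 0 (τ b) * g⁻¹ := by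
    intro b
    rw [hα, MulAut.mul_apply, hu, map_zero, MulAut.conj_apply]
  have hg1 : g * R.u 0 1 * g⁻¹ = R.u 0 1 := by
    have h1 := hαu 1
    rw [map_one, hz] at h1
    exact h1.symm
  obtain ⟨a, b, k, hg⟩ := R.exists_ud (g := g) (R.u_mem 0 1) (R.u_ne_one one_ne_zero) (by rw [hg1]; exact R.u_mem 0 1)
  have hcomm : ∀ a b c, R.u a b * R.u 0 c = R.u 0 c * R.u a b := by
    intro a b c
    rw [R.comm_iff, map_zero, mul_zero, zero_mul]
  have hk : k = 1 := by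
    have h1 : R.d k * R.u 0 1 * (R.d k)⁻¹ = R.u 0 1 := by
      have h2 : g * R.u 0 1 * g⁻¹ = R.u a b * (R.d k * R.u 0 1 * (R.d k)⁻¹) * (R.u a b)⁻¹ := by
        rw [hg]; group
      rw [hg1, R.conj_d, zero_mul, zero_mul, hcomm, mul_inv_cancel_right] at h2
      rw [R.conj_d, zero_mul, zero_mul]
      exact h2.symm
    rcases R.fpf h1 with h2 | h2
    · exact h2
    · exact absurd h2.2 one_ne_zero
  rw [hk, R.d_one, mul_one] at hg
  have hτ : τ = 1 := by
    ext b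
    have h1 : (R.u 0 b)⁻¹ * α (R.u 0 b) = R.u 0 (b + τ b) := by
      rw [hαu, hg, hcomm, mul_inv_cancel_right, R.u_inv, R.u_mul, map_zero]
      congr 1
      · ring
      · ring
    by_cases h2 : b + τ b = 0
    · show τ b = b
      have h3 : τ b = - b := by linear_combination h2
      rw [h3, R.neg_eq]
    · exfalso
      obtain ⟨k, hk⟩ := R.theta_surj (b + τ b)⁻¹
      have hk0 : k ≠ 0 := by
        rintro rfl
        rw [map_zero] at hk
        exact inv_ne_zero h2 hk.symm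
      have h3 : R.d (Units.mk0 k hk0) * ((R.u 0 b)⁻¹ * α (R.u 0 b)) * (R.d (Units.mk0 k hk0))⁻¹ = R.u 0 1 := by
        rw [h1, R.conj_d, zero_mul, zero_mul, Units.val_mk0, hk, mul_inv_cancel₀ h2]
      exact R.u_ne_one one_ne_zero (h.ccp.not_conj hz h3)
  rw [hτ, map_one, mul_one] at hα
  have h4 : α ^ 2 ^ 2 = 1 := by
    have h5 : g ^ 4 = 1 := R.pow_four (by rw [hg]; exact R.u_mem a b)
    rw [hα, ← map_pow]
    norm_num [h5]
  obtain ⟨n, -, hn⟩ := (Nat.dvd_prime_pow Nat.prime_two).1 (orderOf_dvd_of_pow_eq_one h4)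
  refine h.not_primepow (p := 2) ?_ n hn
  have h6 : orderOf (R.u 0 1) = 2 := by
    rw [orderOf_eq_prime_iff, pow_two]
    exact ⟨(R.u_sq_iff 0 1).2 rfl, R.u_ne_one one_ne_zero⟩
  have h7 := _root_.orderOf_dvd_natCard (R.u 0 1)
  rwa [h6] at h7

/-- All involutions are conjugate to `u 0 1`. -/
theorem conj_invol (hm : 1 ≤ m) (hF : Fintype.card F = 2 ^ (2 * m + 1)) {z : ↥(Cfsg.Lie.Sz F (2 ^ (m + 1)))}
    (hz : orderOf z = 2) : ∃ c, c * z * c⁻¹ = (ofGood (good hF)).u 0 1 := by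
  have hfin : Finite ↥(Cfsg.Lie.Sz F (2 ^ (m + 1))) := inferInstance
  set R := ofGood (good hF) with hR
  have : Fact (Nat.Prime 2) := ⟨Nat.prime_two⟩
  obtain ⟨S, hS⟩ := Cfsg.Agent.H70.SzOut.exists_sylow hm hF
  obtain ⟨P, hP⟩ := (IsPGroup.of_card (p := 2) (G := zpowers z) (n := 1)
    (by rw [Nat.card_zpowers, hz, pow_one])).exists_le_sylow
  obtain ⟨c, hc⟩ := MulAction.exists_smul_eq ↥(Cfsg.Lie.Sz F (2 ^ (m + 1))) P S
  have h1 : c * z * c⁻¹ ∈ R.T := by
    rw [hR, ← hS, ← hc, Sylow.coe_subgroup_smul, Subgroup.mem_pointwise_smul_iff_inv_smul_mem]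
    have h2 : (MulAut.conj c)⁻¹ • (c * z * c⁻¹) = z := by
      rw [← map_inv, MulAut.smul_def, MulAut.conj_apply]
      group
    rw [h2]
    exact hP (mem_zpowers z)
  obtain ⟨a, b, hab⟩ := h1
  have h2 : orderOf (R.u a b) = 2 := by
    rw [← hab, ord_conj, hz]
  have h3 : R.u a b * R.u a b = 1 := by
    have h3 := pow_orderOf_eq_one (R.u a b)
    rwa [h2, pow_two] at h3
  have h4 := (R.u_sq_iff a b).1 h3
  subst h4
  have hb : b ≠ 0 := by
    rintro rfl
    rw [R.u_zero, orderOf_one] at h2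
    omega
  obtain ⟨k, hk⟩ := R.theta_surj b⁻¹
  have hk0 : k ≠ 0 := by
    rintro rfl
    rw [map_zero] at hk
    exact inv_ne_zero hb hk.symm
  refine ⟨R.d (Units.mk0 k hk0) * c, ?_⟩
  have h5 : R.d (Units.mk0 k hk0) * (c * z * c⁻¹) * (R.d (Units.mk0 k hk0))⁻¹ = R.u 0 1 := by
    rw [hab, R.conj_d, zero_mul, zero_mul, Units.val_mk0, hk, mul_inv_cancel₀ hb]
  rw [← h5]
  group

/-- `α` fixes no involution. -/
theorem fix_invol (hm : 1 ≤ m) (hF : Fintype.card F = 2 ^ (2 * m + 1)) {α : MulAut ↥(Cfsg.Lie.Sz F (2 ^ (m + 1)))}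
    (h : Cfg α) {z : ↥(Cfsg.Lie.Sz F (2 ^ (m + 1)))} (hz : orderOf z = 2) (hα : α z = z) : False := by
  obtain ⟨c, hc⟩ := conj_invol hm hF hz
  refine fix_one hm hF (h.congr (MulAut.conj c)) ?_
  rw [← hc]
  have h1 := congr_ap (MulAut.conj c) α z
  rw [MulAut.conj_apply] at h1
  rw [h1, hα, MulAut.conj_apply]

/-- Elements of odd prime order are real. -/
theorem real (hm : 1 ≤ m) (hF : Fintype.card F = 2 ^ (2 * m + 1)) {p : ℕ} (hp : p.Prime) (hp2 : p ≠ 2)
    {y : ↥(Cfsg.Lie.Sz F (2 ^ (m + 1)))} (hy : orderOf y = p) : ∃ c, c * y * c⁻¹ = y⁻¹ := by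
  have hfin : Finite ↥(Cfsg.Lie.Sz F (2 ^ (m + 1))) := inferInstance
  have : Fact p.Prime := ⟨hp⟩
  obtain ⟨x, hx, hxr⟩ := Cfsg.Agent.H410.RealTw.real_sz hm hF hp2 (p := p) (by rw [← hy]; exact orderOf_dvd_natCard y)
  obtain ⟨d, hd⟩ := isConj_iff.1 hxr
  have hsyl : ∀ x : ↥(Cfsg.Lie.Sz F (2 ^ (m + 1))), orderOf x = p →
      ∃ P : Sylow p ↥(Cfsg.Lie.Sz F (2 ^ (m + 1))), x ∈ (P : Subgroup ↥(Cfsg.Lie.Sz F (2 ^ (m + 1)))) := by
    intro x hx
    obtain ⟨P, hP⟩ := (IsPGroup.of_card (p := p) (G := zpowers x) (n := 1)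
      (by rw [Nat.card_zpowers, hx, pow_one])).exists_le_sylow
    exact ⟨P, hP (mem_zpowers x)⟩
  obtain ⟨P, hP⟩ := hsyl x hx
  obtain ⟨Q, hQ⟩ := hsyl y hy
  obtain ⟨c, hc⟩ := MulAction.exists_smul_eq ↥(Cfsg.Lie.Sz F (2 ^ (m + 1))) Q P
  have h1 : c * y * c⁻¹ ∈ (P : Subgroup ↥(Cfsg.Lie.Sz F (2 ^ (m + 1)))) := by
    rw [← hc, Sylow.coe_subgroup_smul, Subgroup.mem_pointwise_smul_iff_inv_smul_mem]
    have h2 : (MulAut.conj c)⁻¹ • (c * y * c⁻¹) = y := by
      rw [← map_inv, MulAut.smul_def, MulAut.conj_apply]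
      group
    rw [h2]
    exact hQ
  have hcyc := Cfsg.Agent.H67.SzOdd.sylow_cyclic hm hF hp2 P
  -- the subgroups of order `p` of a cyclic group
  have hz : (⟨c * y * c⁻¹, h1⟩ : ↥(P : Subgroup ↥(Cfsg.Lie.Sz F (2 ^ (m + 1))))) ∈
      zpowers (⟨x, hP⟩ : ↥(P : Subgroup ↥(Cfsg.Lie.Sz F (2 ^ (m + 1))))) := by
    refine mem_zpowers_of hcyc ?_
    have h2 : orderOf (⟨x, hP⟩ : ↥(P : Subgroup ↥(Cfsg.Lie.Sz F (2 ^ (m + 1))))) = p := by
      rw [Subgroup.orderOf_mk, hx]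
    rw [h2]
    apply Subtype.ext
    have h3 : (c * y * c⁻¹) ^ p = 1 := by
      rw [conj_pow, ← hy, pow_orderOf_eq_one, mul_one, mul_inv_cancel]
    exact h3
  obtain ⟨i, hi⟩ := mem_zpowers_iff.1 hz
  have hi' : x ^ i = c * y * c⁻¹ := by
    have := congrArg Subtype.val hi
    simpa using this
  refine ⟨c⁻¹ * d * c, ?_⟩
  have h3 : y = c⁻¹ * x ^ i * c := by rw [hi']; group
  have h4 : d * x ^ i * d⁻¹ = (x ^ i)⁻¹ := by
    rw [← conj_zpow, hd, inv_zpow]
  calc c⁻¹ * d * c * y * (c⁻¹ * d * c)⁻¹ = c⁻¹ * (d * x ^ i * d⁻¹) * c := by rw [h3]; group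
    _ = y⁻¹ := by rw [h4, h3]; group

/-- `⟨α⟩` contains no nontrivial inner automorphism. -/
theorem inn_triv (hm : 1 ≤ m) (hF : Fintype.card F = 2 ^ (2 * m + 1)) {α : MulAut ↥(Cfsg.Lie.Sz F (2 ^ (m + 1)))}
    (h : Cfg α) {x : MulAut ↥(Cfsg.Lie.Sz F (2 ^ (m + 1)))} (hx : x ∈ zpowers α)
    {g : ↥(Cfsg.Lie.Sz F (2 ^ (m + 1)))} (hg : x = MulAut.conj g) : x = 1 := by
  have hfin : Finite ↥(Cfsg.Lie.Sz F (2 ^ (m + 1))) := inferInstance
  by_contra hne
  have h1 : orderOf g ≠ 1 := by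
    intro h1
    rw [orderOf_eq_one_iff] at h1
    rw [h1, map_one] at hg
    exact hne hg
  obtain ⟨s, hs, hsd⟩ := Nat.exists_prime_and_dvd h1
  obtain ⟨z, hz⟩ : ∃ z, z = g ^ (orderOf g / s) := ⟨_, rfl⟩
  have hzo : orderOf z = s := by
    rw [hz]
    exact orderOf_pow_orderOf_div (orderOf_pos g).ne' hsd
  have hzα : MulAut.conj z ∈ zpowers α := by
    rw [hz, map_pow, ← hg]
    exact pow_mem hx _
  by_cases h2 : s = 2
  · refine fix_invol hm hF h (z := z) (by rw [hzo, h2]) ?_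
    exact fix_of_comm h.center_bot (Cfg.comm_zpowers (mem_zpowers α) hzα)
  · obtain ⟨c, hc⟩ := real hm hF hs h2 hzo
    have h3 := h.sq_eq_one_of_real hzα hc
    have h4 := orderOf_dvd_of_pow_eq_one h3
    rw [hzo] at h4
    exact h2 ((Nat.prime_dvd_prime_iff_eq hs Nat.prime_two).1 h4)

/-- `|α|` divides `2 m + 1`. -/
theorem ord_dvd (hm : 1 ≤ m) (hF : Fintype.card F = 2 ^ (2 * m + 1)) {α : MulAut ↥(Cfsg.Lie.Sz F (2 ^ (m + 1)))}
    (h : Cfg α) : orderOf α ∣ 2 * m + 1 := by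
  rw [orderOf_dvd_iff_pow_eq_one]
  have h1 : (QuotientGroup.mk' (Cfsg.Inn ↥(Cfsg.Lie.Sz F (2 ^ (m + 1))))) (α ^ (2 * m + 1)) = 1 := by
    have hout := Cfsg.Agent.S2126.result hm hF
    have hfO : Finite (Cfsg.Out ↥(Cfsg.Lie.Sz F (2 ^ (m + 1)))) := Nat.finite_of_card_ne_zero (by rw [hout]; omega)
    rw [map_pow, ← hout]
    exact pow_card_eq_one' (G := Cfsg.Out ↥(Cfsg.Lie.Sz F (2 ^ (m + 1))))
  obtain ⟨g, hg⟩ := (QuotientGroup.eq_one_iff _).1 h1
  exact inn_triv hm hF h (pow_mem (mem_zpowers α) _) hg.symm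

/-- coprime automorphisms are conjugate to field automorphisms -/
theorem copIn (hm : 1 ≤ m) (hF : Fintype.card F = 2 ^ (2 * m + 1)) {ρ : F ≃+* F}
    (hρ : orderOf ρ = Nat.card (F ≃+* F)) :
    H254.CopIn ↥(Cfsg.Lie.Sz F (2 ^ (m + 1))) (fieldAut (good hF) ρ) := by
  have h1 := (copIn_sz hm hF hρ).of_equiv (szE hm hF)
  have h2 : MulAut.congr (szE hm hF) (fa hm hF ρ) = fieldAut (good hF) ρ := by
    ext g : 1
    show szE hm hF (fa hm hF ρ ((szE hm hF).symm g)) = _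
    unfold fa
    show szE hm hF ((szE hm hF).symm (fieldAut (good hF) ρ (szE hm hF ((szE hm hF).symm g)))) = _
    rw [MulEquiv.apply_symm_apply, MulEquiv.apply_symm_apply]
  rwa [h2] at h1

section Main

open Cfsg.Agent.H967.CopSz Cfsg.Agent.H967.CopFix Cfsg.Agent.H967.CopMat Cfsg.Agent.H270.StrP

/-- **The row of the Suzuki groups.** -/
theorem row (hm : 1 ≤ m) (hF : Fintype.card F = 2 ^ (2 * m + 1)) : Row ↥(Cfsg.Lie.Sz F (2 ^ (m + 1))) := by
  have hfin : Finite ↥(Cfsg.Lie.Sz F (2 ^ (m + 1))) := inferInstance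
  intro α h
  by_cases hco : (orderOf α).Coprime (Nat.card ↥(Cfsg.Lie.Sz F (2 ^ (m + 1))))
  · -- coprime: a field automorphism
    obtain ⟨ρ, hρ, -⟩ := H254.exists_ringAut F
    obtain ⟨γ, hγ⟩ := copIn hm hF hρ (Subgroup.zpowers α) (by rw [Nat.card_zpowers]; exact hco)
    have h5 : γ * α * γ⁻¹ ∈ Subgroup.zpowers (H70.SzOut.fieldAut (good hF) ρ) := by
      apply hγ
      exact ⟨α, Subgroup.mem_zpowers α, rfl⟩
    obtain ⟨k, hk⟩ := h5
    have h6 : γ * α * γ⁻¹ = H70.SzOut.fieldAut (good hF) (ρ ^ k) := by rw [map_zpow]; exact hk.symm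
    refine fix_one hm hF (h.congr γ) ?_
    show (γ * α * γ⁻¹) _ = _
    rw [h6]
    have h7 := fieldAut_u (good hF) (ρ ^ k) 0 1
    rw [map_zero, map_one] at h7
    exact h7
  · obtain ⟨p, hp, hpα, hpG⟩ := Nat.Prime.not_coprime_iff_dvd.1 hco
    have hpf : Fact p.Prime := ⟨hp⟩
    have h2m := (hpα.trans (ord_dvd hm hF h))
    have hp2 : p ≠ 2 := by
      rintro rfl
      omega
    obtain ⟨y, hy, hyo⟩ := exists_prime_order hp hpα
    have h2p := two_prime
    have hcF : CharP F 2 := charP_of_card Nat.prime_two hF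
    have hs : IsSimpleGroup ↥(Cfsg.Lie.Sz F (2 ^ (m + 1))) := Cfsg.Agent.S1162.result hm hF
    have hcard := (Cfsg.Agent.S1163.result hm hF).1
    have hq2 : 2 ≤ 2 ^ (2 * m + 1) := Nat.le_self_pow (by omega) 2
    have hyi : ¬ ∃ g, y = MulAut.conj g := by
      rintro ⟨g, hg⟩
      have h1 := inn_triv hm hF h hy hg
      rw [h1, orderOf_one] at hyo
      exact hp.one_lt.ne hyo
    obtain ⟨σ, hσ, hσ', g, hg⟩ := exists_field (stab_sz hF) (p := 2) (by omega) hF (S2126.result hm hF)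
      (fun ψ => by
        obtain ⟨g, σ, h⟩ := Cfsg.Agent.H70.SzAutThm.exists_conj_field hm hF ψ
        exact ⟨g, σ, h⟩) hp hyo hyi
    have hE := card_Fx σ
    rw [hσ, Nat.card_eq_fintype_card, hF] at hE
    obtain ⟨m₀, j, h1, h2⟩ := exists_odd_exp Nat.prime_two hE
    have h3 : 2 * m + 1 = (2 * m₀ + 1) * p := by
      rw [h1, ← pow_mul] at hE
      exact Nat.pow_right_injective (le_refl 2) hE
    have hfinE : Fintype ↥(Fx σ) := Fintype.ofFinite _
    have hE' : Fintype.card ↥(Fx σ) = 2 ^ (2 * m₀ + 1) := by rw [← Nat.card_eq_fintype_card, h1]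
    have hpq : ∀ n : ℕ, ¬ p ∣ 2 ^ n := fun n h =>
      hp2 ((Nat.prime_dvd_prime_iff_eq hp Nat.prime_two).1 (hp.dvd_of_dvd_pow h))
    have hqq : 2 ^ (2 * m + 1) = (2 ^ (2 * m₀ + 1)) ^ p := by rw [h3, pow_mul]
    by_cases hm₀ : 1 ≤ m₀
    · obtain ⟨f, hf, hfix⟩ := sz_fixed hF σ h1 h2
      have hs₀ : IsSimpleGroup ↥(Cfsg.Lie.Sz ↥(Fx σ) (2 ^ (m₀ + 1))) := Cfsg.Agent.S1162.result hm₀ hE'
      have hcard₀ := (Cfsg.Agent.S1163.result hm₀ hE').1
      have hr2 : 2 ≤ 2 ^ (2 * m₀ + 1) := Nat.le_self_pow (by omega) 2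
      have hna₀ : ¬ IsMulCommutative ↥(Cfsg.Lie.Sz ↥(Fx σ) (2 ^ (m₀ + 1))) :=
        not_comm_of_card hcard₀ (by nlinarith [Nat.sub_pos_of_lt hr2]) (by nlinarith)
      have hlt : (Nat.card ↥(Cfsg.Lie.Sz ↥(Fx σ) (2 ^ (m₀ + 1)))).factorization p <
          (Nat.card ↥(Cfsg.Lie.Sz F (2 ^ (m + 1)))).factorization p := by
        have hA := fact_pow_sub hp hp2 hr2
        have hB := fact_pow_add hp hp2 (a := (2 ^ (2 * m₀ + 1)) ^ 2) (Nat.one_le_pow _ _ (by positivity))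
        have hB' : ((2 ^ (2 * m₀ + 1)) ^ 2) ^ p = (2 ^ (2 * m + 1)) ^ 2 := by
          rw [hqq]
          generalize 2 ^ (2 * m₀ + 1) = r
          rw [← pow_mul, ← pow_mul, mul_comm 2 p]
        rw [hB'] at hB
        rw [← hqq] at hA
        rw [hcard] at hpG
        rw [hcard, hcard₀]
        refine fact_mul_lt hp (by positivity) (by positivity) (by omega) (by omega) (by positivity) (by positivity)
          (by rw [← pow_mul]; exact hpq _) (by rw [← pow_mul]; exact hpq _) hA hB hpG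
      have hfixc : (Nat.card {y : ↥(Cfsg.Lie.Sz F (2 ^ (m + 1))) //
          H967.CopMat.fieldAut (stab_sz hF) σ y = y}).factorization p <
          (Nat.card ↥(Cfsg.Lie.Sz F (2 ^ (m + 1)))).factorization p := by
        rw [Nat.card_congr (Equiv.subtypeEquivRight hfix)]
        have h9 : Nat.card ↥f.range = Nat.card ↥(Cfsg.Lie.Sz ↥(Fx σ) (2 ^ (m₀ + 1))) :=
          (Nat.card_congr (MonoidHom.ofInjective hf).toEquiv).symm
        exact lt_of_eq_of_lt (congrArg (fun n => n.factorization p) h9) hlt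
      obtain ⟨β, hβ⟩ := coset_conj h.center_bot hp2
        (fun P => Cfsg.Agent.H67.SzOdd.sylow_cyclic hm hF hp2 P) hyo hσ' hg hfixc
      -- conjugate `α`
      set φ := H967.CopMat.fieldAut (stab_sz hF) σ with hφdef
      have hyφ : β⁻¹ * y * β = φ := by
        ext w : 1
        show β⁻¹ (y (β w)) = φ w
        rw [← hβ, MulAut.inv_apply_self]
      have h' := h.congr β⁻¹
      have hcg : MulAut.congr β⁻¹ α = β⁻¹ * α * (β⁻¹)⁻¹ := rfl
      set α' := MulAut.congr β⁻¹ α with hα'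
      have hφα : φ ∈ zpowers α' := by
        obtain ⟨n, hn⟩ := mem_zpowers_iff.1 hy
        refine mem_zpowers_iff.2 ⟨n, ?_⟩
        rw [hcg, conj_pow_aut, hn, inv_inv, hyφ]
      have hrange : f.range = fixA φ := by
        ext g
        rw [← hfix, mem_fixA]
      have e : ↥(Cfsg.Lie.Sz ↥(Fx σ) (2 ^ (m₀ + 1))) ≃* ↥(fixA φ) :=
        (MonoidHom.ofInjective hf).trans (MulEquiv.subgroupCongr hrange)
      have hφ1 : φ ≠ 1 := by
        intro h4
        rw [h4, orderOf_one] at hσ'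
        exact hp.one_lt.ne hσ'
      have hcent : ∀ g ∈ fixA φ, α' g = g :=
        h'.centralizes' (Cfg.fixA_ne_top hφ1) (Cfg.fixA_inv (Cfg.comm_zpowers hφα (mem_zpowers α'))) le_rfl
          (Cfg.fixA_inv (Cfg.comm_zpowers hφα (mem_zpowers α'))) (TwF.ns_congr e (TwF.ns_of_simple hs₀ hna₀))
      refine fix_one hm hF h' (hcent _ ?_)
      rw [mem_fixA]
      have h7 := fieldAut_u (good hF) σ 0 1
      rw [map_zero, map_one] at h7
      exact h7
    · -- `q₀ = 2`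
      have h0 : m₀ = 0 := by omega
      rw [h0, mul_zero, zero_add, one_mul] at h3
      have h4 := ord_dvd hm hF h
      rw [h3] at h4
      rcases (Nat.dvd_prime hp).1 h4 with h5 | h5
      · exact h.ne (orderOf_eq_one_iff.1 h5)
      · exact h.not_primepow hpG 1 (by rw [h5, pow_one])

end Main

end Cfsg.Agent.H496.Ccp.Sz

namespace Cfsg.Agent.H496.Ccp

open Cfsg.Agent.H520

/-- **S4114 for the Suzuki groups.** -/
theorem row_sz {G : Type*} [Group G] [Finite G] (h : Cfsg.Lie.IsoSuzuki G) : Row G := by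
  obtain ⟨F, _, _, m, hm, hF, ⟨e⟩⟩ := h
  exact (Sz.row hm hF).congr e

end Cfsg.Agent.H496.Ccp
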