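import Cfsg.Agent.H628.ZTwF4Out
import Cfsg.Agent.H501.RowTwF

/-!
# Automorphisms of odd prime order of `²F₄(q)` (helper496)

* `em_range` : the fixed points of `al * phi m` are in the image of `²F₄(K)`;
* `out` : an automorphism of odd prime order `p` of `²F₄(K)` is inner, or some power `x ^ i` (`i` prime to `p`) is conjugate
  by an inner automorphism to a field automorphism of order `p`.
-/

set_option autoImplicit false

namespace Cfsg.Agent.H496.Ccp.TwFOut

open Subgroup Cfsg Cfsg.Lie Cfsg.Lie.ChevalleyDatum CoxeterSystem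
open Cfsg.Agent.ChevalleyStructure Cfsg.Agent.ChevalleyStructure.Elts Cfsg.Agent.ChevalleyStructure.CoxeterGeom
  Cfsg.Agent.ChevalleyStructure.CoxeterGeomTypes
open Cfsg.Agent.GpExc.Field (glMap emb coe_emb glMap_xG emb_injective coe_glMap)
open Cfsg.Agent.CpAut.RgdUntw (fld fld_coe fld_mul fld_one fld_pow)
open Cfsg.Agent.BpExc.FamField Cfsg.Agent.BpExc.TowChev
open Cfsg.Agent.H296.FFour (hp4 al sg al_phi_sq al_mul_fld lang4 le_fix fix_le gam_F4)
open Cfsg.Agent.ChevalleyStructure.TwF4.TwistedFix (exists_rln)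
open Cfsg.Agent.BpExc.FamField Cfsg.Agent.BpExc.FamUntw Cfsg.Agent.BpExc.FamExt
open Cfsg.Agent.H628.ZTwF4Out

universe u

section Main

variable {K : Type u} [Field K] [Fintype K] [CharP K 2] [PerfectRing K 2] [h2 : Fact (Nat.Prime 2)] {m : ℕ}
  (hK : Fintype.card K = 2 ^ (2 * m + 1))

variable {k : Type u} [Field k] [CharP k 2] [PerfectRing k 2] [IsAlgClosed k] (f : K →+* k)

/-- fixed points are in the image -/
theorem em_range (z : ↥(chevF4.group k)) (hz : (al k * phi chevF4 k 2 m) z = z) : ∃ b, em hK f b = z := by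
  have cs := CoxeterMatrix.F₄.toCoxeterSystem
  have h1 : Cfsg.Agent.H129.TorusUntw.phi chevF4 k 2 (2 * m + 1) z = z := by
    rw [← Cfsg.Agent.H501.RowTwF.phi_eq_phi, ← al_phi_sq, MulAut.mul_apply, hz, hz]
  obtain ⟨b, hb⟩ := Cfsg.Agent.H129.TorusUntw.fix_range hp4 cs f hK Cfsg.Agent.H129.TorusChar.invC_F4 one_ne_zero
    (fun a => ⟨a, pow_one a⟩) h1
  have h3 : sg (frb K 2 m) b = b := by
    apply emb_injective hp4.inList f
    rw [← sig_emb, hb, hz]
  have h4 := fix_le hK (τ := frb K 2 m) (fun a => frb_apply K 2 m a) h3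
  exact ⟨⟨b, h4⟩, hb⟩

include hK in
/-- **Outer automorphisms of odd prime order of `²F₄(q)` are of field type.** -/
theorem out (hm : 1 ≤ m) {p : ℕ} (hp : p.Prime) (hp2 : p ≠ 2) (x : MulAut ↥(twistedF4 K (2 ^ m)))
    (hx : orderOf x = p) : (∃ g, x = MulAut.conj g) ∨
      ∃ (i : ℕ) (w : ↥(twistedF4 K (2 ^ m))) (τ : K ≃+* K), i.Coprime p ∧ τ ^ p = 1 ∧ τ ≠ 1 ∧
        MulAut.conj w * x ^ i * (MulAut.conj w)⁻¹ = S2128.fld τ (2 ^ m) := by
  obtain ⟨g0, τ0, hx0⟩ := Cfsg.Agent.H71.FldAut.twF4_aut hm hK x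
  by_cases hτ : τ0 = 1
  · left
    exact ⟨g0, by rw [hx0, hτ, fldF_one, mul_one]⟩
  right
  have hxp : x ^ p = 1 := by rw [← hx, pow_orderOf_eq_one]
  -- `τ0 ^ p = 1`
  have hτp : τ0 ^ p = 1 := by
    obtain ⟨g, hg⟩ := pow_form (g0 := g0) (τ := τ0) p
    rw [← hx0, hxp] at hg
    obtain ⟨φ, hφ⟩ := exists_rln hK
    have h1 : ∀ y, g⁻¹ * y * g⁻¹⁻¹ = S2128.fld (τ0 ^ p) (2 ^ m) y := by
      intro y
      have h2 := congrArg (fun β : MulAut ↥(twistedF4 K (2 ^ m)) => g⁻¹ * β y * g) hg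
      simp only [MulAut.one_apply, MulAut.mul_apply, MulAut.conj_apply] at h2
      rw [inv_inv, h2]
      group
    have h3 := S2128.eq_one_of_conj (Cfsg.Agent.KFacts.TwF4.Inst.full hK hφ) (g := g⁻¹) (τ := τ0 ^ p)
      (fun a t => by rw [h1]; exact S2128.fld_ro _ hφ a t) (fun a q u => by rw [h1]; exact S2128.fld_re _ hφ a q u)
    exact RingEquiv.ext h3
  obtain ⟨i, e, hi, he0, hcard, hie⟩ := exists_field 2 hp hτp hτ
  have hn : Nat.card K = 2 ^ (2 * m + 1) := by rw [Nat.card_eq_fintype_card, hK]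
  have h1 : 2 * m + 1 = e * p := by
    rw [hn] at hcard
    exact Nat.pow_right_injective le_rfl hcard
  obtain ⟨s, rfl⟩ : ∃ s, p = 2 * s + 1 := by
    rcases Nat.even_or_odd p with h | h
    · exact absurd ((Nat.Prime.even_iff hp).1 h) hp2
    · exact h
  obtain ⟨j, rfl⟩ : ∃ j, e = 2 * j + 1 := by
    rcases Nat.even_or_odd e with ⟨a, ha⟩ | h
    · exfalso
      rw [ha] at h1
      have : (a + a) * (2 * s + 1) = 2 * (a * (2 * s + 1)) := by ring
      omega
    · exact h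
  have h2' : m = (2 * j + 1) * s + j := by
    have : (2 * j + 1) * (2 * s + 1) = 2 * ((2 * j + 1) * s + j) + 1 := by ring
    omega
  -- the power
  have h3 : (τ0 ^ (i * (s + 1))) = frb K 2 (m + 1 + j) := by
    ext a
    rw [pow_mul, pow_apply_of hie, frb_apply, h2']
    congr 2
    ring
  have hs0 : 0 < s := by
    rcases Nat.eq_zero_or_pos s with h | h
    · subst h
      exact absurd hp (by norm_num)
    · exact h
  have hi' : (i * (s + 1)).Coprime (2 * s + 1) := by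
    apply Nat.Coprime.mul_left hi
    rw [Nat.coprime_comm, Nat.Prime.coprime_iff_not_dvd hp]
    intro h
    have := Nat.le_of_dvd (by omega) h
    omega
  obtain ⟨N, hN⟩ := pow_form (g0 := g0) (τ := τ0) (i * (s + 1))
  have hτ1 : frb K 2 (m + 1 + j) ≠ 1 := by
    rw [← h3]
    intro h
    have h4 := orderOf_dvd_of_pow_eq_one h
    have : Fact (2 * s + 1).Prime := ⟨hp⟩
    have h5 : orderOf τ0 = 2 * s + 1 := orderOf_eq_prime hτp hτ
    rw [h5] at h4
    have h6 := Nat.eq_one_of_dvd_coprimes hi' h4 dvd_rfl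
    omega
  have hτp' : frb K 2 (m + 1 + j) ^ (2 * s + 1) = 1 := by
    rw [← h3, ← pow_mul, mul_comm, pow_mul, hτp, one_pow]
  rw [← hx0, h3] at hN
  have hch : CharP (AlgebraicClosure K) 2 := Cfsg.Agent.H296.Core.charP_closure K 2
  obtain ⟨f, -⟩ : ∃ f : K →+* AlgebraicClosure K, True := ⟨algebraMap K (AlgebraicClosure K), trivial⟩
  obtain ⟨ψ, hψ0⟩ : ∃ ψ, ψ = MulAut.conj (em hK f N) *
    (al (AlgebraicClosure K) * phi chevF4 (AlgebraicClosure K) 2 j) := ⟨_, rfl⟩
  have hxψ : ∀ a, em hK f ((x ^ (i * (s + 1))) a) = ψ (em hK f a) := by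
    intro a
    have h4 : ψ (em hK f a) = em hK f N * (al (AlgebraicClosure K) * phi chevF4 (AlgebraicClosure K) 2 j) (em hK f a) *
        (em hK f N)⁻¹ := by rw [hψ0]; rfl
    rw [hN, h4, sig_em, MulAut.mul_apply, MulAut.conj_apply, map_mul, map_mul, map_inv]
  have hψ : ψ ^ (2 * s + 1) = al (AlgebraicClosure K) * phi chevF4 (AlgebraicClosure K) 2 m := by
    obtain ⟨g, hg⟩ := pow_psi hK f (N := N) (j := j) (2 * s + 1)
    rw [sig_pow h2', ← hψ0] at hg
    have h4 : ∀ n a, (ψ ^ n) (em hK f a) = em hK f (((x ^ (i * (s + 1))) ^ n) a) := by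
      intro n a
      induction n with
      | zero => rfl
      | succ n ih => rw [pow_succ', MulAut.mul_apply, ih, ← hxψ, pow_succ', MulAut.mul_apply]
    have h5 : em hK f g = 1 := by
      apply em_comm hK f
      intro a
      have h6 := h4 (2 * s + 1) a
      rw [hg, ← pow_mul, mul_comm _ (2 * s + 1), pow_mul, hxp, one_pow, MulAut.one_apply, MulAut.mul_apply,
        sig_em_self, MulAut.conj_apply, mul_inv_eq_iff_eq_mul] at h6
      exact h6
    rw [hg, h5, map_one, one_mul]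
  -- `ψ` is conjugate to `al * phi j`
  obtain ⟨w, hw⟩ := lang4 j (em hK f N)
  obtain ⟨ψ0, hψ0def⟩ : ∃ ψ0 : MulAut ↥(chevF4.group (AlgebraicClosure K)),
    ψ0 = al (AlgebraicClosure K) * phi chevF4 (AlgebraicClosure K) 2 j := ⟨_, rfl⟩
  rw [← hψ0def] at hψ0 hw
  have hψw : ∀ y, ψ y = w⁻¹ * ψ0 (w * y * w⁻¹) * w := by
    intro y
    rw [hψ0, hw, MulAut.mul_apply, MulAut.conj_apply, map_mul, map_mul, map_inv]
    group
  have hψn : ∀ n y, (ψ ^ n) y = w⁻¹ * (ψ0 ^ n) (w * y * w⁻¹) * w := by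
    intro n y
    induction n with
    | zero => rw [pow_zero, pow_zero, MulAut.one_apply, MulAut.one_apply]; group
    | succ n ih =>
      rw [pow_succ', MulAut.mul_apply, ih, hψw, pow_succ' ψ0, MulAut.mul_apply]
      have h4 : w * (w⁻¹ * (ψ0 ^ n) (w * y * w⁻¹) * w) * w⁻¹ = (ψ0 ^ n) (w * y * w⁻¹) := by group
      rw [h4]
  have hσw : (al (AlgebraicClosure K) * phi chevF4 (AlgebraicClosure K) 2 m) w = w := by
    have h4 : ∀ y, (al (AlgebraicClosure K) * phi chevF4 (AlgebraicClosure K) 2 m) y =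
        w⁻¹ * (al (AlgebraicClosure K) * phi chevF4 (AlgebraicClosure K) 2 m) (w * y * w⁻¹) * w := by
      intro y
      have h5 := hψn (2 * s + 1) y
      rwa [hψ, hψ0def, sig_pow h2'] at h5
    obtain ⟨σ, hσ⟩ : ∃ σ : MulAut ↥(chevF4.group (AlgebraicClosure K)),
      σ = al (AlgebraicClosure K) * phi chevF4 (AlgebraicClosure K) 2 m := ⟨_, rfl⟩
    have hse : ∀ a, σ (em hK f a) = em hK f a := by
      intro a
      rw [hσ]
      exact sig_em_self hK f a
    rw [← hσ] at h4 ⊢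
    have h5 : w⁻¹ * σ w = 1 := by
      apply em_comm hK f
      intro a
      have h6 := h4 (em hK f a)
      rw [map_mul, map_mul, map_inv, hse] at h6
      conv_rhs => rw [h6]
      group
    rw [inv_mul_eq_one] at h5
    exact h5.symm
  obtain ⟨w0, hw0⟩ := em_range hK f w hσw
  refine ⟨i * (s + 1), w0, frb K 2 (m + 1 + j), hi', hτp', hτ1, ?_⟩
  ext y : 1
  apply em_injective hK f
  rw [MulAut.mul_apply, MulAut.mul_apply, MulAut.conj_apply, MulAut.conj_inv_apply, map_mul, map_mul, map_inv, hw0,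
    hxψ, hψw, ← sig_em, ← hψ0def]
  have h5 : w * em hK f (w0⁻¹ * y * w0) * w⁻¹ = em hK f y := by
    rw [map_mul, map_mul, map_inv, hw0]
    group
  rw [h5]
  group

end Main

end Cfsg.Agent.H496.Ccp.TwFOut
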