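import Cfsg.Agent.H496.Ccp.TwFReal
import Cfsg.Agent.H496.Ccp.TwFOut
import Cfsg.Agent.H520.CcpCfg
import Cfsg.Agent.H270.StrP.TwFFF
import Cfsg.Agent.KFacts.TwF4.CentQ

/-!
# S4114, the row `²F₄(q)` (helper496)

`h : Cfg α`, `G = ²F₄(q)`. An odd prime `p` divides `|α|`; `y ∈ ⟨α⟩` of order `p` is not inner since elements of odd order
are real, hence of field type; `α` centralises `C_G(y) = ²F₄(q₀)`, in particular a root element `z`; `Z(C_G(z))` is the root
group and `α` acts trivially on it by (F1); a contradiction.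
-/

set_option autoImplicit false

namespace Cfsg.Agent.H496.Ccp.TwF

open Subgroup Cfsg Cfsg.Lie Cfsg.Agent.H520

universe u v

/-! ### groups without solvable normal subgroups -/

theorem ns_of_simple {E : Type*} [Group E] (hs : IsSimpleGroup E) (hna : ¬ IsMulCommutative E) :
    ∀ N : Subgroup E, N.Normal → Group.IsSolvable N → N = ⊥ := by
  intro N hN hsol
  rcases hN.eq_bot_or_eq_top with h | h
  · exact h
  · exfalso
    subst h
    have h1 : Group.IsSolvable E :=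
      Group.isSolvable_of_isSolvable_injective (f := (Subgroup.topEquiv (G := E)).symm.toMonoidHom)
        (Subgroup.topEquiv (G := E)).symm.injective
    apply hna
    exact ⟨⟨fun a b => (IsSimpleGroup.comm_iff_isSolvable.2 h1) a b⟩⟩

theorem ns_of_two {E : Type*} [Group E] (D : Subgroup E) [hD : D.Normal] (hs : IsSimpleGroup D)
    (hna : ¬ IsMulCommutative D) (hz : ∀ r : E, r ∈ centralizer (D : Set E) → r = 1) :
    ∀ N : Subgroup E, N.Normal → Group.IsSolvable N → N = ⊥ := by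
  intro N hN hsol
  have h1 : N.subgroupOf D = ⊥ := by
    refine ns_of_simple hs hna _ (hN.subgroupOf D) ?_
    have : Group.IsSolvable N := hsol
    let f : ↥(N.subgroupOf D) →* N :=
      { toFun := fun x => ⟨x.1, x.2⟩
        map_one' := rfl
        map_mul' := fun _ _ => rfl }
    exact Group.isSolvable_of_isSolvable_injective (f := f) fun a b hab => by
      have h2 : (⟨a.1, a.2⟩ : N) = ⟨b.1, b.2⟩ := hab
      exact Subtype.ext (Subtype.ext (congrArg (fun x : N => (x : E)) h2))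
  rw [eq_bot_iff]
  intro n hn
  rw [mem_bot]
  apply hz
  rw [mem_centralizer_iff]
  intro d hd
  have h2 : d * n * d⁻¹ * n⁻¹ ∈ N := mul_mem (hN.conj_mem n hn d) (inv_mem hn)
  have h3 : d * n * d⁻¹ * n⁻¹ ∈ D := by
    have : d * n * d⁻¹ * n⁻¹ = d * (n * d⁻¹ * n⁻¹) := by group
    rw [this]
    exact mul_mem hd (hD.conj_mem _ (inv_mem hd) n)
  have h4 : (⟨_, h3⟩ : D) ∈ N.subgroupOf D := h2
  rw [h1, mem_bot] at h4
  have h5 : d * n * d⁻¹ * n⁻¹ = 1 := congrArg Subtype.val h4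
  rw [mul_inv_eq_one, mul_inv_eq_iff_eq_mul] at h5
  exact h5

theorem ns_congr {E E' : Type*} [Group E] [Group E'] (e : E ≃* E')
    (h : ∀ N : Subgroup E, N.Normal → Group.IsSolvable N → N = ⊥) :
    ∀ N : Subgroup E', N.Normal → Group.IsSolvable N → N = ⊥ := by
  intro N hN hsol
  have h1 : N.comap e.toMonoidHom = ⊥ := by
    refine h _ (hN.comap _) ?_
    have : Group.IsSolvable N := hsol
    let f : ↥(N.comap e.toMonoidHom) →* N :=
      { toFun := fun x => ⟨e x.1, x.2⟩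
        map_one' := Subtype.ext (map_one e)
        map_mul' := fun a b => Subtype.ext (map_mul e a.1 b.1) }
    exact Group.isSolvable_of_isSolvable_injective (f := f)
      (fun a b hab => Subtype.ext (e.injective (congrArg Subtype.val hab)))
  rw [eq_bot_iff]
  intro n hn
  have h2 : e.symm n ∈ N.comap e.toMonoidHom := by
    show e (e.symm n) ∈ N
    rwa [e.apply_symm_apply]
  rw [h1, mem_bot] at h2
  rw [mem_bot, ← e.apply_symm_apply n, h2, map_one]

theorem fix_of_zpowers {G : Type*} [Group G] {β γ : MulAut G} {g : G} (h : β g = g) (hγ : γ ∈ zpowers β) : γ g = g := by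
  have h1 : zpowers β ≤ MulAction.stabilizer (MulAut G) g := by
    rw [zpowers_le]
    exact h
  exact h1 hγ

/-! ### the centre of the centraliser of a root element -/

section Zc

variable {F : Type*} [Field F] {σ : F →+* F} {G : Type u} [Group G] (S : Cfsg.Agent.KFacts.TwF4.Full σ G) [Finite F]
  [Finite G]

/-- If `α` fixes a root element then it fixes the root group. -/
theorem fix_Zc {α : MulAut G} (h : Cfg α) (hz : α (S.e 2 0 1) = S.e 2 0 1) (u : F) : α (S.e 2 0 u) = S.e 2 0 u := by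
  have hz1 : S.e 2 0 1 ≠ 1 := fun h1 => one_ne_zero (S.e_eq_one h1).2
  have hzZ : S.e 2 0 1 ∈ S.Zc 2 := ⟨1, rfl⟩
  have hPL : ∀ x, x ∈ S.PL ↔ x * S.e 2 0 1 = S.e 2 0 1 * x := by
    intro x
    rw [← S.centralizer_z hzZ hz1, mem_centralizer_singleton_iff]
  have hαPL : ∀ x, α x ∈ S.PL ↔ x ∈ S.PL := by
    intro x
    rw [hPL, hPL]
    constructor
    · intro h1
      apply α.injective
      rw [map_mul, map_mul, hz, h1]
    · intro h1
      have h2 := congrArg α h1
      rwa [map_mul, map_mul, hz] at h2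
  have h1 : α (S.e 2 0 u) ∈ S.Zc 2 := by
    apply S.center_PL
    intro x hx
    obtain ⟨x', rfl⟩ := α.surjective x
    have hx' := (hαPL x').1 hx
    rw [← map_mul, ← map_mul, S.comm_PL hx' (⟨u, rfl⟩ : S.e 2 0 u ∈ S.Zc 2)]
  have h2 : (S.e 2 0 u)⁻¹ * α (S.e 2 0 u) ∈ S.Zc 2 := mul_mem (inv_mem ⟨u, rfl⟩) h1
  obtain ⟨v, hv⟩ := h2
  by_cases hv0 : v = 0
  · rw [hv0, S.e_zero] at hv
    exact (inv_mul_eq_one.1 hv.symm).symm
  · exfalso
    obtain ⟨t, -, ht⟩ := S.T_trans hv0 one_ne_zero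
    rw [hv] at ht
    exact hz1 (h.ccp.not_conj hz ht)

end Zc

/-! ### the row -/

section Row

open Cfsg.Agent.H967.CopSz Cfsg.Agent.H967.CopFix Cfsg.Agent.H967.CopMat Cfsg.Agent.H270.StrP

variable {K : Type u} [Field K] [Fintype K] {m : ℕ}

/-- The fixed points of a field automorphism of odd prime order have no nontrivial solvable normal subgroup. -/
theorem ns_fixA (hK : Fintype.card K = 2 ^ (2 * m + 1)) {p : ℕ} (hp : p.Prime) {τ : K ≃+* K}
    (hτp : τ ^ p = 1) (hτ : τ ≠ 1) :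
    ∀ N : Subgroup ↥(fixA (S2128.fld τ (2 ^ m))), N.Normal → Group.IsSolvable N → N = ⊥ := by
  have hpf : Fact p.Prime := ⟨hp⟩
  have hfinF : Finite ↥(Fx τ) := inferInstance
  have hE := card_Fx τ
  rw [orderOf_eq_prime hτp hτ, Nat.card_eq_fintype_card, hK] at hE
  obtain ⟨m₀, j, h1, h2⟩ := exists_odd_exp Nat.prime_two hE
  have hfinE : Fintype ↥(Fx τ) := Fintype.ofFinite _
  have hE' : Fintype.card ↥(Fx τ) = 2 ^ (2 * m₀ + 1) := by rw [← Nat.card_eq_fintype_card, h1]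
  obtain ⟨f, hf, hfix⟩ := tf4_fixed hK τ h1 h2
  have hrange : f.range = fixA (S2128.fld τ (2 ^ m)) := by
    ext g
    rw [← hfix, mem_fixA]
    exact Iff.rfl
  have e : ↥(twistedF4 ↥(Fx τ) (2 ^ m₀)) ≃* ↥(fixA (S2128.fld τ (2 ^ m))) :=
    (MonoidHom.ofInjective hf).trans (MulEquiv.subgroupCongr hrange)
  apply ns_congr e
  rcases Nat.eq_zero_or_pos m₀ with h0 | h0
  · subst h0
    obtain ⟨-, s1, na1, z1⟩ := tf4_two (E := ↥(Fx τ)) (by rw [hE']; norm_num) (d := 2 ^ 0) (pow_zero 2)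
    exact ns_of_two (commutator ↥(twistedF4 ↥(Fx τ) (2 ^ 0))) s1 na1 z1
  · exact ns_of_simple (Cfsg.Agent.S1072.result h0 hE').1 (Cfsg.Agent.S1072.result h0 hE').2

theorem row (hm : 1 ≤ m) (hK : Fintype.card K = 2 ^ (2 * m + 1)) : Row ↥(twistedF4 K (2 ^ m)) := by
  have hf2 : Fact (Nat.Prime 2) := ⟨Nat.prime_two⟩
  have hcK : CharP K 2 := charP_of_card Nat.prime_two hK
  have hpK : PerfectRing K 2 := perfect_of_finite K
  have hfinG : Finite ↥(twistedF4 K (2 ^ m)) := inferInstance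
  intro α h
  -- an odd prime dividing `|α|`
  have h2G : 2 ∣ Nat.card ↥(twistedF4 K (2 ^ m)) := by
    rw [Cfsg.Agent.S1068.result hK]
    refine Dvd.dvd.mul_right (Dvd.dvd.mul_right (Dvd.dvd.mul_right (Dvd.dvd.mul_right ?_ _) _) _) _
    rw [← pow_mul]
    exact dvd_pow_self 2 (by positivity)
  obtain ⟨p, hp, hp2, hpα⟩ := h.exists_prime_ne Nat.prime_two h2G
  obtain ⟨y, hy, hyo⟩ := exists_prime_order hp hpα
  rcases TwFOut.out hK hm hp hp2 y hyo with ⟨g, rfl⟩ | ⟨i, w, τ, hi, hτp, hτ, hw⟩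
  · -- inner: real
    have hgp : g ^ p = 1 := by
      apply conj_inj h.center_bot
      rw [map_pow, map_one, ← hyo, pow_orderOf_eq_one]
    obtain ⟨c, hc⟩ := TwFReal.real_TwF hK g hp.ne_zero ((Nat.coprime_primes hp Nat.prime_two).2 hp2) hgp
    have h1 := h.sq_eq_one_of_real hy hc
    have h2 : (MulAut.conj g) ^ 2 = 1 := by rw [← map_pow, h1, map_one]
    have h3 := orderOf_dvd_of_pow_eq_one h2
    rw [hyo] at h3
    exact hp2 ((Nat.prime_dvd_prime_iff_eq hp Nat.prime_two).1 h3)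
  · -- field type
    have h' := h.congr (MulAut.conj w)
    have hcg : ∀ β : MulAut ↥(twistedF4 K (2 ^ m)), MulAut.congr (MulAut.conj w) β =
        MulAut.conj w * β * (MulAut.conj w)⁻¹ := fun β => rfl
    set β := MulAut.congr (MulAut.conj w) α with hβ
    have hfβ : S2128.fld τ (2 ^ m) ∈ zpowers β := by
      obtain ⟨n, hn⟩ := mem_zpowers_iff.1 hy
      refine mem_zpowers_iff.2 ⟨n * i, ?_⟩
      rw [hβ, hcg, conj_pow_aut, zpow_mul, hn, zpow_natCast, hw]
    obtain ⟨φ, hφ⟩ := Cfsg.Agent.ChevalleyStructure.TwF4.TwistedFix.exists_rln hK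
    have hfe : ∀ u : K, S2128.fld τ (2 ^ m) ((Cfsg.Agent.KFacts.TwF4.Inst.full hK hφ).e 2 0 u) =
        (Cfsg.Agent.KFacts.TwF4.Inst.full hK hφ).e 2 0 (τ u) := by
      intro u
      have h1 := S2128.fld_re τ hφ 2 0 u
      rwa [map_zero] at h1
    have hne : S2128.fld τ (2 ^ m) ≠ 1 := by
      intro h1
      apply hτ
      ext u
      have h2 := hfe u
      rw [h1, MulAut.one_apply] at h2
      exact ((Cfsg.Agent.KFacts.TwF4.Inst.full hK hφ).injE 2 _ _ _ _ h2).2.symm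
    have hcent : ∀ g ∈ fixA (S2128.fld τ (2 ^ m)), β g = g :=
      h'.centralizes' (Cfg.fixA_ne_top hne) (Cfg.fixA_inv (Cfg.comm_zpowers hfβ (mem_zpowers β))) le_rfl
        (Cfg.fixA_inv (Cfg.comm_zpowers hfβ (mem_zpowers β))) (ns_fixA hK hp hτp hτ)
    have hz : β ((Cfsg.Agent.KFacts.TwF4.Inst.full hK hφ).e 2 0 1) =
        (Cfsg.Agent.KFacts.TwF4.Inst.full hK hφ).e 2 0 1 := by
      apply hcent
      rw [mem_fixA, hfe, map_one]
    have hall := fix_Zc (Cfsg.Agent.KFacts.TwF4.Inst.full hK hφ) h' hz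
    apply hτ
    ext u
    have h3 : S2128.fld τ (2 ^ m) ((Cfsg.Agent.KFacts.TwF4.Inst.full hK hφ).e 2 0 u) =
        (Cfsg.Agent.KFacts.TwF4.Inst.full hK hφ).e 2 0 u := by
      exact fix_of_zpowers (hall u) hfβ
    rw [hfe] at h3
    exact ((Cfsg.Agent.KFacts.TwF4.Inst.full hK hφ).injE 2 _ _ _ _ h3).2

end Row

end Cfsg.Agent.H496.Ccp.TwF

namespace Cfsg.Agent.H496.Ccp

open Cfsg.Agent.H520

/-- **S4114 for `²F₄(q)`.** -/
theorem row_twF4 {G : Type*} [Group G] [Finite G] (h : Cfsg.Lie.Iso2F4 G) : Row G := by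
  obtain ⟨K, _, _, m, hm, hK, ⟨e⟩⟩ := h
  exact (TwF.row hm hK).congr e

end Cfsg.Agent.H496.Ccp
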